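import Groth.Agent.Lib.SGA1Quot21.ExistsGlue
import Groth.Agent.Lib.SGA1Quot21.Points
import Groth.Agent.Lib.SGA1Quot21.BaseChange

/-!
Quotients by finite groups: affineness of the target, quotient by a quotient group.
-/

set_option autoImplicit false
set_option backward.isDefEq.respectTransparency false

universe u

open CategoryTheory AlgebraicGeometry TopologicalSpace Opposite Limits GrothLib.SGA1Quot21

namespace GrothLib.QuotTower

/-- The target of a quotient of an affine scheme is affine. -/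
theorem isAffine_target {X Y : Scheme.{u}} {G : Type u} [Group G] [Finite G] {ρ : G →* Aut X} {p : X ⟶ Y}
    [IsAffine X] (hp : SGA1.IsQuot ρ p) : IsAffine Y := by
  obtain ⟨A, B, _, _, _, _, _, _, _, e, he⟩ := exists_algebraic_action ρ
  let π := Spec.map (CommRingCat.ofHom (algebraMap B A))
  have hS : SGA1.IsQuot (specAction G A) π := isQuot_Spec _ (specAction_range G A)
  have hsq : IsPullback e.hom (e.hom ≫ π) π (𝟙 _) := IsPullback.of_horiz_isIso ⟨by simp⟩
  have hq : SGA1.IsQuot ρ (e.hom ≫ π) := by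
    refine isQuot_baseChange hS hsq (fun g => ?_) fun g => ?_
    · have := hS.inv g
      rw [he, Category.assoc, Iso.inv_comp_eq, Category.assoc] at this
      exact this
    · rw [he, Iso.hom_inv_id_assoc]
  obtain ⟨a, ha, -⟩ := existsUnique_desc hp (e.hom ≫ π) hq.inv
  obtain ⟨b, hb, -⟩ := existsUnique_desc hq p hp.inv
  have h1 : a ≫ b = 𝟙 Y := (existsUnique_desc hp p hp.inv).unique
    (by rw [← Category.assoc, ha, hb]) (Category.comp_id p)
  have h2 : b ≫ a = 𝟙 _ := (existsUnique_desc hq (e.hom ≫ π) hq.inv).unique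
    (by rw [← Category.assoc, hb, ha]) (Category.comp_id _)
  haveI : IsIso a := ⟨b, h1, h2⟩
  exact IsAffine.of_isIso a

/-- Preimages under a quotient determine affineness. -/
theorem isAffineOpen_of_preimage {X Y : Scheme.{u}} {G : Type u} [Group G] [Finite G] {ρ : G →* Aut X}
    {p : X ⟶ Y} (hp : SGA1.IsQuot ρ p) (V : Y.Opens) (hV : IsAffineOpen (p ⁻¹ᵁ V)) : IsAffineOpen V := by
  haveI : IsAffine (p ⁻¹ᵁ V).toScheme := hV
  have hinv : ∀ g : G, (ρ g).hom ⁻¹ᵁ (p ⁻¹ᵁ V) = p ⁻¹ᵁ V := fun g => by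
    rw [← Scheme.Hom.comp_preimage, hp.inv g]
  exact isAffine_target (isQuot_restrict hp V (restrictAction ρ _ hinv) (restrictAction_ι ρ _ hinv))

theorem epi {X Y : Scheme.{u}} {G : Type u} [Group G] [Finite G] {ρ : G →* Aut X} {p : X ⟶ Y}
    (hp : SGA1.IsQuot ρ p) {Z : Scheme.{u}} {a b : Y ⟶ Z} (h : p ≫ a = p ≫ b) : a = b :=
  (existsUnique_desc hp (p ≫ b) fun g => by rw [reassoc_of% hp.inv g]).unique h rfl

theorem isQuot_quotient {G : Type u} [Group G] [Finite G] {X XG XH : Scheme.{u}} (ρ : G →* Aut X)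
    {pH : X ⟶ XH} {r : XH ⟶ XG} (hP : SGA1.IsQuot ρ (pH ≫ r)) (H : Subgroup G) [H.Normal]
    (hPH : SGA1.IsQuot (ρ.comp H.subtype) pH) (ρbar : G ⧸ H →* Aut XH)
    (hρbar : ∀ g : G, pH ≫ (ρbar (QuotientGroup.mk g)).hom = (ρ g).hom ≫ pH) :
    SGA1.IsQuot ρbar r := by
  have hinv : ∀ q : G ⧸ H, (ρbar q).hom ≫ r = r := by
    intro q
    obtain ⟨g, rfl⟩ := QuotientGroup.mk_surjective q
    refine epi hPH ?_
    rw [reassoc_of% hρbar g]
    exact hP.inv g
  have hinj : ∀ U : XG.Opens, Function.Injective (r.app U).hom := fun U a b h => by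
    refine hP.injective U ?_
    rw [Scheme.Hom.comp_app, CommRingCat.comp_apply, CommRingCat.comp_apply, h]
  refine ⟨⟨fun U hU => isAffineOpen_of_preimage hPH _ (hP.affine.isAffine_preimage U hU)⟩, hinv, hinj,
    fun U s => ⟨?_, fun hs => ?_⟩⟩
  · rintro ⟨b, rfl⟩; exact isInv_app ρbar r hinv U b
  obtain ⟨b, hb⟩ := (hP.range_iff U ((pH.app (r ⁻¹ᵁ U)).hom s)).2 fun g => by
    have hsg := congrArg (pH.app (r ⁻¹ᵁ U)).hom (hs (QuotientGroup.mk g))
    refine Eq.trans ?_ hsg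
    show ((pH.app (r ⁻¹ᵁ U) ≫ (ρ g).hom.appLE _ _ _).hom) s =
      (((ρbar (QuotientGroup.mk g)).hom.appLE _ _ _ ≫ pH.app (r ⁻¹ᵁ U)).hom) s
    congr 2
    rw [Scheme.Hom.app_eq_appLE, Scheme.Hom.appLE_comp_appLE, Scheme.Hom.appLE_comp_appLE]
    congr 1
    exact (hρbar g).symm
  rw [Scheme.Hom.comp_app, CommRingCat.comp_apply] at hb
  exact ⟨b, hPH.injective _ hb⟩

end GrothLib.QuotTower
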