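import Groth.Agent.Lib.QuotTower.Normal
import Groth.Agent.Lib.AlgSp.FieldBase

/-!
Quotients of products by products of groups.
-/

set_option autoImplicit false
set_option backward.isDefEq.respectTransparency false

universe u

open CategoryTheory AlgebraicGeometry TopologicalSpace Opposite Limits GrothLib.SGA1Quot21

namespace GrothLib.QuotTower

/-- A quotient of a quotient. -/
theorem isQuot_comp {X Z W : Scheme.{u}} {Γ₀ G H : Type u} [Group Γ₀] [Group G] [Group H]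
    (θ : Γ₀ →* Aut X) (i : G →* Γ₀) (j : Γ₀ →* H) (hj : Function.Surjective j)
    {π₁ : X ⟶ Z} (h₁ : SGA1.IsQuot (θ.comp i) π₁) (σ : H →* Aut Z)
    (heq : ∀ γ : Γ₀, (θ γ).hom ≫ π₁ = π₁ ≫ (σ (j γ)).hom) {π₂ : Z ⟶ W} (h₂ : SGA1.IsQuot σ π₂) :
    SGA1.IsQuot θ (π₁ ≫ π₂) := by
  have hinv : ∀ γ : Γ₀, (θ γ).hom ≫ π₁ ≫ π₂ = π₁ ≫ π₂ := fun γ => by
    rw [reassoc_of% heq γ, h₂.inv]
  haveI := h₁.affine
  haveI := h₂.affine
  refine ⟨inferInstance, hinv, fun U a b hab => h₂.injective U (h₁.injective _ ?_), fun U s => ⟨?_, fun hs => ?_⟩⟩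
  · rw [Scheme.Hom.comp_app, CommRingCat.comp_apply, CommRingCat.comp_apply] at hab
    exact hab
  · rintro ⟨b, rfl⟩; exact isInv_app θ _ hinv U b
  obtain ⟨t, rfl⟩ := (h₁.range_iff (π₂ ⁻¹ᵁ U) s).2 fun g => hs (i g)
  obtain ⟨b, rfl⟩ := (h₂.range_iff U t).2 fun h => by
    obtain ⟨γ, rfl⟩ := hj h
    refine h₁.injective _ (Eq.trans ?_ (hs γ))
    show ((((σ (j γ)).hom.appLE _ _ _) ≫ π₁.app (π₂ ⁻¹ᵁ U)).hom) t =
      ((π₁.app (π₂ ⁻¹ᵁ U) ≫ (θ γ).hom.appLE _ _ _).hom) t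
    congr 2
    rw [Scheme.Hom.app_eq_appLE, Scheme.Hom.appLE_comp_appLE, Scheme.Hom.appLE_comp_appLE]
    congr 1
    exact (heq γ).symm
  exact ⟨b, by rw [Scheme.Hom.comp_app, CommRingCat.comp_apply]; rfl⟩

section Prod

variable {k : Type u} [Field k] {G H : Type u} [Group G] [Finite G] [Group H] [Finite H]
  {X Y XG YH : Scheme.{u}}

/-- An action over the base, pulled back to a fibre product. -/
noncomputable def sndAction {S Y Z : Scheme.{u}} (a : Z ⟶ S) (fY : Y ⟶ S) (σ : H →* Aut Y)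
    (hσ : ∀ h, (σ h).hom ≫ fY = fY) : H →* Aut (pullback a fY) where
  toFun h :=
    { hom := pullback.lift (pullback.fst a fY) (pullback.snd a fY ≫ (σ h).hom)
        (by rw [Category.assoc, hσ, pullback.condition])
      inv := pullback.lift (pullback.fst a fY) (pullback.snd a fY ≫ (σ h).inv)
        (by rw [Category.assoc, (Iso.inv_comp_eq (σ h)).2 (hσ h).symm, pullback.condition])
      hom_inv_id := by
        apply pullback.hom_ext <;> simp
      inv_hom_id := by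
        apply pullback.hom_ext <;> simp }
  map_one' := by
    refine Iso.ext ?_
    show pullback.lift _ _ _ = 𝟙 _
    apply pullback.hom_ext <;> simp [show (1 : Aut Y).hom = 𝟙 Y from rfl]
  map_mul' g h := by
    refine Iso.ext ?_
    show pullback.lift _ _ _ = pullback.lift _ _ _ ≫ pullback.lift _ _ _
    apply pullback.hom_ext <;> simp [show ∀ a b : Aut Y, (a * b).hom = b.hom ≫ a.hom from fun _ _ => rfl]

theorem isQuot_prod (fX : X ⟶ Spec (CommRingCat.of k))
    (fY : Y ⟶ Spec (CommRingCat.of k)) (gX : XG ⟶ Spec (CommRingCat.of k))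
    (gY : YH ⟶ Spec (CommRingCat.of k)) (ρ : G →* Aut X) (σ : H →* Aut Y)
    (hσ : ∀ h, (σ h).hom ≫ fY = fY)
    (p : X ⟶ XG) (hp : p ≫ gX = fX) (q : Y ⟶ YH) (hq : q ≫ gY = fY)
    (hP : SGA1.IsQuot ρ p) (hQ : SGA1.IsQuot σ q)
    (θ : G × H →* Aut (pullback fX fY))
    (hθ1 : ∀ gh : G × H, (θ gh).hom ≫ pullback.fst fX fY = pullback.fst fX fY ≫ (ρ gh.1).hom)
    (hθ2 : ∀ gh : G × H, (θ gh).hom ≫ pullback.snd fX fY = pullback.snd fX fY ≫ (σ gh.2).hom)
    (π : pullback fX fY ⟶ pullback gX gY) (hπ1 : π ≫ pullback.fst gX gY = pullback.fst fX fY ≫ p)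
    (hπ2 : π ≫ pullback.snd gX gY = pullback.snd fX fY ≫ q) :
    SGA1.IsQuot θ π := by
  haveI : Flat fY := GrothLib.AlgSp.flat_to_field fY
  haveI : Flat gX := GrothLib.AlgSp.flat_to_field gX
  let π₁ : pullback fX fY ⟶ pullback gX fY := pullback.lift (pullback.fst fX fY ≫ p) (pullback.snd fX fY)
    (by rw [Category.assoc, hp, pullback.condition])
  let π₂ : pullback gX fY ⟶ pullback gX gY := pullback.lift (pullback.fst gX fY) (pullback.snd gX fY ≫ q)
    (by rw [Category.assoc, hq, pullback.condition])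
  have hπ : π = π₁ ≫ π₂ := by
    apply pullback.hom_ext
    · rw [hπ1]; simp [π₁, π₂]
    · rw [hπ2]; simp [π₁, π₂]
  have sq₁ : IsPullback (pullback.fst fX fY) π₁ p (pullback.fst gX fY) :=
    IsPullback.of_bot (by simpa [π₁, hp] using IsPullback.of_hasPullback fX fY) (by simp [π₁])
      (IsPullback.of_hasPullback gX fY)
  have sq₂ : IsPullback (pullback.snd gX fY) π₂ q (pullback.snd gX gY) :=
    IsPullback.of_bot (by simpa [π₂, hq] using (IsPullback.of_hasPullback gX fY).flip) (by simp [π₂])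
      (IsPullback.of_hasPullback gX gY).flip
  have h₁ : SGA1.IsQuot (θ.comp (MonoidHom.inl G H)) π₁ := by
    refine isQuot_baseChange hP sq₁ (fun g => ?_) fun g => ?_
    · apply pullback.hom_ext
      · simp [π₁, reassoc_of% hθ1 (g, 1), hP.inv]
      · simp [π₁, hθ2 (g, 1), show (1 : Aut Y).hom = 𝟙 Y from rfl]
    · exact hθ1 (g, 1)
  have h₂ : SGA1.IsQuot (sndAction gX fY σ hσ) π₂ := by
    refine isQuot_baseChange hQ sq₂ (fun h => ?_) fun h => ?_
    · apply pullback.hom_ext <;> simp [π₂, sndAction, hQ.inv]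
    · simp [sndAction]
  rw [hπ]
  refine isQuot_comp θ (MonoidHom.inl G H) (MonoidHom.snd G H) (fun h => ⟨(1, h), rfl⟩) h₁ _ (fun γ => ?_) h₂
  apply pullback.hom_ext
  · simp [π₁, sndAction, reassoc_of% hθ1 γ, hP.inv]
  · simp [π₁, sndAction, hθ2 γ]

end Prod

end GrothLib.QuotTower
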