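import Groth.Agent.Lib.SGA1Quot21.Points
import Mathlib.AlgebraicGeometry.Morphisms.ClosedImmersion

/-!
Quotient of an open piece whose translates partition the scheme.
-/

set_option autoImplicit false
set_option backward.isDefEq.respectTransparency false

universe u

open CategoryTheory AlgebraicGeometry TopologicalSpace Opposite Limits GrothLib.SGA1Quot21

namespace GrothLib.QuotTower

variable {X : Scheme.{u}}

theorem eq_of_isEmpty_open {V : X.Opens} (hV : ∀ x, x ∉ V) (a b : Γ(X, V)) : a = b :=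
  TopCat.Presheaf.section_ext X.sheaf V a b fun x hx => absurd hx (hV x)

theorem exists_glue (Y : X.Opens) (C : X.Opens) (hdisj : ∀ x, x ∈ Y → x ∉ C) (hcov : ∀ x, x ∈ Y ∨ x ∈ C)
    (V : X.Opens) (s : Γ(Y.toScheme, Y.ι ⁻¹ᵁ V)) (s' : Γ(C.toScheme, C.ι ⁻¹ᵁ V)) :
    ∃ a : Γ(X, V), (Y.ι.app V).hom a = s ∧ (C.ι.app V).hom a = s' := by
  let W : Bool → X.Opens := fun b => bif b then Y.ι ''ᵁ Y.ι ⁻¹ᵁ V else C.ι ''ᵁ C.ι ⁻¹ᵁ V
  let f : ∀ b, Γ(X, W b) := fun b => match b with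
    | true => s
    | false => s'
  have hWle : ∀ b, W b ≤ V := fun b => by
    cases b <;> exact Set.image_preimage_subset _ _
  have hempty : ∀ x, x ∈ Y.ι ''ᵁ Y.ι ⁻¹ᵁ V → x ∉ C.ι ''ᵁ C.ι ⁻¹ᵁ V := by
    rintro x ⟨y, -, rfl⟩ ⟨c, -, hc⟩
    have hc' : c.1 = y.1 := hc
    exact hdisj _ y.2 (hc' ▸ c.2)
  have hcompat : TopCat.Presheaf.IsCompatible X.sheaf.1 W f := fun b b' => by
    cases b <;> cases b'
    · rfl
    · exact eq_of_isEmpty_open (V := W false ⊓ W true) (fun x hx => hempty x hx.2 hx.1) _ _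
    · exact eq_of_isEmpty_open (V := W true ⊓ W false) (fun x hx => hempty x hx.1 hx.2) _ _
    · rfl
  obtain ⟨a, ha, -⟩ := X.sheaf.existsUnique_gluing' W V (fun b => homOfLE (hWle b)) (fun x hx => by
    rcases hcov x with h | h
    · exact Opens.mem_iSup.2 ⟨true, ⟨⟨x, h⟩, hx, rfl⟩⟩
    · exact Opens.mem_iSup.2 ⟨false, ⟨⟨x, h⟩, hx, rfl⟩⟩) f hcompat
  exact ⟨a, ha true, ha false⟩

theorem germ_eq_zero {Z X : Scheme.{u}} (f : Z ⟶ X) (V : X.Opens) (a : Γ(X, V)) (z : Z) (hz : f z ∈ V)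
    [IsIso (f.stalkMap z)] (ha : Z.presheaf.germ (f ⁻¹ᵁ V) z hz ((f.app V).hom a) = 0) :
    X.presheaf.germ V (f z) hz a = 0 := by
  apply (ConcreteCategory.bijective_of_isIso (f.stalkMap z)).1
  rw [Scheme.Hom.germ_stalkMap_apply, map_zero]
  exact ha

theorem isQuot_translates {G : Type u} [Group G] [Finite G] {XG : Scheme.{u}} (ρ : G →* Aut X)
    {p : X ⟶ XG} (hP : SGA1.IsQuot ρ p) (H : Subgroup G) (Y : X.Opens)
    (hcov : ∀ x : X, ∃ g : G, x ∈ (ρ g).hom.base '' (Y : Set X))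
    (hdisj : ∀ g : G, g ∉ H → Disjoint ((ρ g).hom.base '' (Y : Set X)) (Y : Set X))
    (ρY : H →* Aut (Y : Scheme.{u})) (hρY : ∀ h : H, (ρY h).hom ≫ Y.ι = Y.ι ≫ (ρ (h : G)).hom) :
    SGA1.IsQuot ρY (Y.ι ≫ p) := by
  classical
  haveI := hP.affine
  have hopen : ∀ g : G, IsOpen ((ρ g).hom.base '' (Y : Set X)) := fun g =>
    (ρ g).hom.isOpenEmbedding.isOpenMap _ Y.2
  have hmemY : ∀ (h : G), h ∈ H → ∀ y ∈ Y, (ρ h).hom y ∈ Y := fun h hh y hy => by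
    have := congrArg (fun f : Y.toScheme ⟶ X => f ⟨y, hy⟩) (hρY ⟨h, hh⟩)
    change _ = (ρ h).hom y at this
    rw [← this]
    exact ((ρY ⟨h, hh⟩).hom ⟨y, hy⟩).2
  let C : X.Opens := ⟨(Y : Set X)ᶜ, by
    have : (Y : Set X)ᶜ = ⋃ g ∈ {g : G | g ∉ H}, (ρ g).hom.base '' (Y : Set X) := by
      ext x
      simp only [Set.mem_compl_iff, Set.mem_iUnion, exists_prop]
      refine ⟨fun hx => ?_, fun ⟨g, hg, hgx⟩ hxY => (hdisj g hg).le_bot ⟨hgx, hxY⟩⟩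
      obtain ⟨g, y, hy, rfl⟩ := hcov x
      exact ⟨g, fun hg => hx (hmemY g hg y hy), y, hy, rfl⟩
    rw [this]
    exact isOpen_biUnion fun g _ => hopen g⟩
  haveI : IsClosedImmersion Y.ι := IsClosedImmersion.of_isPreimmersion _
    (by rw [Scheme.Opens.range_ι]; exact ⟨C.2⟩)
  have hinv : ∀ h : H, (ρY h).hom ≫ Y.ι ≫ p = Y.ι ≫ p := fun h => by
    rw [reassoc_of% hρY h, hP.inv]
  have hC : ∀ g : G, g ∉ H → ∃ l : Y.toScheme ⟶ C.toScheme, l ≫ C.ι = Y.ι ≫ (ρ g).hom := fun g hg => by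
    refine ⟨IsOpenImmersion.lift C.ι (Y.ι ≫ (ρ g).hom) ?_, IsOpenImmersion.lift_fac _ _ _⟩
    rw [Scheme.Opens.range_ι]
    rintro _ ⟨y, rfl⟩
    exact fun hy => (hdisj g hg).le_bot ⟨⟨y.1, y.2, rfl⟩, hy⟩
  -- the action on the sections restricted to `Y`
  have hactC : ∀ (U : XG.Opens) (g : G), g ∉ H → ∀ a : Γ(X, p ⁻¹ᵁ U),
      (C.ι.app (p ⁻¹ᵁ U)).hom a = 0 → (Y.ι.app (p ⁻¹ᵁ U)).hom ((act ρ p hP.inv U g).hom a) = 0 := by
    intro U g hg a ha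
    obtain ⟨l, hl⟩ := hC g hg
    have hle : Y.ι ⁻¹ᵁ (p ⁻¹ᵁ U) ≤ l ⁻¹ᵁ (C.ι ⁻¹ᵁ (p ⁻¹ᵁ U)) := by
      rw [← Scheme.Hom.comp_preimage l C.ι, hl, Scheme.Hom.comp_preimage]
      exact Y.ι.preimage_mono (SGA1.preimage_le_of_inv ρ p hP.inv g U)
    have : act ρ p hP.inv U g ≫ Y.ι.app (p ⁻¹ᵁ U) = C.ι.app (p ⁻¹ᵁ U) ≫ l.appLE _ _ hle := by
      rw [act, Scheme.Hom.app_eq_appLE, Scheme.Hom.app_eq_appLE, Scheme.Hom.appLE_comp_appLE,
        Scheme.Hom.appLE_comp_appLE]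
      congr 1
      exact hl.symm
    rw [← CommRingCat.comp_apply, this, CommRingCat.comp_apply, ha, map_zero]
  have hactY : ∀ (U : XG.Opens) (h : H) (a : Γ(X, p ⁻¹ᵁ U)),
      (Y.ι.app (p ⁻¹ᵁ U)).hom ((act ρ p hP.inv U h).hom a) =
        (act ρY (Y.ι ≫ p) hinv U h).hom ((Y.ι.app (p ⁻¹ᵁ U)).hom a) := by
    intro U h a
    have : act ρ p hP.inv U h ≫ Y.ι.app (p ⁻¹ᵁ U) =
        Y.ι.app (p ⁻¹ᵁ U) ≫ act ρY (Y.ι ≫ p) hinv U h := by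
      rw [act, act, Scheme.Hom.app_eq_appLE, Scheme.Hom.appLE_comp_appLE]
      erw [Scheme.Hom.appLE_comp_appLE]
      congr 1
      exact (hρY h).symm
    exact congrArg (fun f => (CommRingCat.Hom.hom f) a) this
  -- invariant sections are determined by their restriction to `Y`
  have hext : ∀ (U : XG.Opens) (a : Γ(X, p ⁻¹ᵁ U)), IsInv ρ p hP.inv U a →
      (Y.ι.app (p ⁻¹ᵁ U)).hom a = 0 → a = 0 := by
    intro U a ha ha0
    refine TopCat.Presheaf.section_ext X.sheaf _ a 0 fun x hx => ?_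
    show X.presheaf.germ (p ⁻¹ᵁ U) x hx a = X.presheaf.germ (p ⁻¹ᵁ U) x hx 0
    rw [map_zero]
    obtain ⟨g, y, hy, rfl⟩ := hcov x
    haveI : IsIso ((Y.ι ≫ (ρ g).hom).stalkMap ⟨y, hy⟩) := inferInstance
    refine germ_eq_zero (Y.ι ≫ (ρ g).hom) _ a ⟨y, hy⟩ hx ?_
    have hpre : (Y.ι ≫ (ρ g).hom) ⁻¹ᵁ (p ⁻¹ᵁ U) ≤ Y.ι ⁻¹ᵁ (p ⁻¹ᵁ U) := by
      rw [Scheme.Hom.comp_preimage, ← Scheme.Hom.comp_preimage (ρ g).hom p, hP.inv g]
    have heq : (Y.ι ≫ (ρ g).hom).app (p ⁻¹ᵁ U) =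
        act ρ p hP.inv U g ≫ Y.ι.appLE _ ((Y.ι ≫ (ρ g).hom) ⁻¹ᵁ (p ⁻¹ᵁ U)) hpre := by
      rw [act, Scheme.Hom.app_eq_appLE, Scheme.Hom.appLE_comp_appLE]
    rw [heq, CommRingCat.comp_apply, ha g, Scheme.Hom.appLE, CommRingCat.comp_apply, ha0, map_zero, map_zero]
  refine ⟨inferInstance, hinv, fun U b c hbc => ?_, fun U s => ⟨?_, fun hs => ?_⟩⟩
  · rw [Scheme.Hom.comp_app, CommRingCat.comp_apply, CommRingCat.comp_apply] at hbc
    refine hP.injective U (sub_eq_zero.1 (hext U _ (fun g => ?_) (by rw [map_sub, sub_eq_zero]; exact hbc)))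
    rw [map_sub, isInv_app ρ p hP.inv U b g, isInv_app ρ p hP.inv U c g]
  · rintro ⟨b, rfl⟩; exact isInv_app ρY (Y.ι ≫ p) hinv U b
  -- extend by zero and sum over the cosets
  obtain ⟨a, haY, haC⟩ := exists_glue Y C (fun x hx h => h hx) (fun x => em _) (p ⁻¹ᵁ U) s 0
  letI := sectionsAction ρ p hP.inv U
  have hfix : ∀ h ∈ H, h • a = a := by
    intro h hh
    show (act ρ p hP.inv U h⁻¹).hom a = a
    refine sub_eq_zero.1 (TopCat.Presheaf.section_ext X.sheaf _ _ 0 fun x hx => ?_)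
    show X.presheaf.germ (p ⁻¹ᵁ U) x hx _ = X.presheaf.germ (p ⁻¹ᵁ U) x hx 0
    rw [map_zero]
    by_cases hxY : x ∈ Y
    · refine germ_eq_zero Y.ι _ _ ⟨x, hxY⟩ hx ?_
      rw [map_sub, hactY U ⟨h⁻¹, H.inv_mem hh⟩ a, haY,
        show (act ρY (Y.ι ≫ p) hinv U ⟨h⁻¹, H.inv_mem hh⟩).hom s = s from hs _, sub_self, map_zero]
    · refine germ_eq_zero C.ι _ _ ⟨x, hxY⟩ hx ?_
      have hle : C.ι ⁻¹ᵁ (p ⁻¹ᵁ U) ≤ (C.ι ≫ (ρ h⁻¹).hom) ⁻¹ᵁ (p ⁻¹ᵁ U) := by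
        rw [Scheme.Hom.comp_preimage]
        exact C.ι.preimage_mono (SGA1.preimage_le_of_inv ρ p hP.inv h⁻¹ U)
      obtain ⟨l, hl⟩ : ∃ l : C.toScheme ⟶ C.toScheme, l ≫ C.ι = C.ι ≫ (ρ h⁻¹).hom := by
        refine ⟨IsOpenImmersion.lift C.ι (C.ι ≫ (ρ h⁻¹).hom) ?_, IsOpenImmersion.lift_fac _ _ _⟩
        rw [Scheme.Opens.range_ι]
        rintro _ ⟨c, rfl⟩ hc
        refine c.2 ?_
        have h3 := hmemY h hh _ hc
        have h2 := congrArg (fun f : X ⟶ X => f c.1)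
          (show (ρ h⁻¹).hom ≫ (ρ h).hom = 𝟙 X by rw [← rho_mul, mul_inv_cancel, rho_one])
        exact Eq.mp (congrArg (fun z => z ∈ Y) h2) h3
      have hle' : C.ι ⁻¹ᵁ (p ⁻¹ᵁ U) ≤ l ⁻¹ᵁ (C.ι ⁻¹ᵁ (p ⁻¹ᵁ U)) := by
        rw [← Scheme.Hom.comp_preimage l C.ι, hl]; exact hle
      have : act ρ p hP.inv U h⁻¹ ≫ C.ι.app (p ⁻¹ᵁ U) = C.ι.app (p ⁻¹ᵁ U) ≫ l.appLE _ _ hle' := by
        rw [act, Scheme.Hom.app_eq_appLE, Scheme.Hom.appLE_comp_appLE, Scheme.Hom.appLE_comp_appLE]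
        congr 1
        exact hl.symm
      rw [map_sub, ← CommRingCat.comp_apply, this, CommRingCat.comp_apply, haC, map_zero, sub_self, map_zero]
  haveI : Fintype (G ⧸ H) := Fintype.ofFinite _
  let F : G ⧸ H → Γ(X, p ⁻¹ᵁ U) := fun q => Quotient.liftOn' q (fun g => g • a) fun g g' hgg' => by
    rw [QuotientGroup.leftRel_apply] at hgg'
    show g • a = g' • a
    conv_rhs => rw [show g' = g * (g⁻¹ * g') by group, mul_smul, hfix _ hgg']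
  obtain ⟨b, hb⟩ := (hP.range_iff U (∑ q, F q)).2 fun g => by
    show (act ρ p hP.inv U g).hom (∑ q, F q) = ∑ q, F q
    rw [← inv_inv g]
    show g⁻¹ • (∑ q, F q) = ∑ q, F q
    rw [Finset.smul_sum]
    refine Fintype.sum_equiv (MulAction.toPerm g⁻¹) _ _ fun q => ?_
    obtain ⟨g', rfl⟩ := QuotientGroup.mk_surjective q
    show g⁻¹ • g' • a = (g⁻¹ * g') • a
    rw [mul_smul]
  refine ⟨b, ?_⟩
  rw [Scheme.Hom.comp_app, CommRingCat.comp_apply, hb, map_sum, Finset.sum_eq_single (QuotientGroup.mk (1 : G))]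
  · show (Y.ι.app (p ⁻¹ᵁ U)).hom ((1 : G) • a) = s
    rw [one_smul]; exact haY
  · intro q _ hq
    obtain ⟨g, rfl⟩ := QuotientGroup.mk_surjective q
    exact hactC U g⁻¹ (fun hg => hq (QuotientGroup.eq.2 (by simpa using hg))) a haC
  · exact fun h => absurd (Finset.mem_univ _) h

end GrothLib.QuotTower
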